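import Cfsg.Agent.SE.CK2

/-!
Case (C): how to conclude from a regular normal subgroup of the point stabiliser.
-/

set_option autoImplicit false

namespace Cfsg.Agent.SE
open MulAction Cfsg.Agent.H5.Invol

variable {G Ω : Type*} [Group G] [MulAction G Ω] {a : Ω} {t : G}

theorem CD.trans (h : CD G Ω a t) {b c : Ω} (hb : b ≠ a) (hc : c ≠ a) :
    ∃ g : G, g • a = a ∧ g • b = c :=
  is_two_pretransitive_iff.1 h.two hb.symm hc.symm

theorem CD.concl_of [Finite G] (h : CD G Ω a t) {Q : Subgroup G} (h1 : ∀ x ∈ Q, x • a = a)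
    (h2 : ∀ g : G, g • a = a → ∀ x ∈ Q, g * x * g⁻¹ ∈ Q) (h3 : ∀ x ∈ Q, x • t • a = t • a → x = 1)
    (h4 : ∀ g : G, g • a = a → ∃ x ∈ Q, x • t • a = g • t • a) {u : G} (hu : Inv u) (huQ : u ∈ Q) :
    Concl G Ω :=
  ⟨a, t, Q, h.two, h.inv.2, h.inv.1, h.ne, h1, h2, eq_bot_iff.2 fun x hx => h3 x hx.1 hx.2,
    le_antisymm (sup_le h1 inf_le_left) fun g hg => by
      obtain ⟨x, hx, e⟩ := h4 g hg
      rw [← mul_inv_cancel_left x g]
      refine Subgroup.mul_mem_sup hx ⟨(stabilizer G a).mul_mem ((stabilizer G a).inv_mem (h1 x hx)) hg, ?_⟩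
      change (x⁻¹ * g) • t • a = t • a
      rw [mul_smul, ← e, inv_smul_smul],
    even_card_of_involution huQ hu.1 hu.2, h.odd_D⟩

end Cfsg.Agent.SE
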