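import Mathlib

/-!
The Baer–Suzuki theorem for involutions.
-/

set_option autoImplicit false

namespace Cfsg.Agent.SE

open Subgroup

namespace Baer

variable {G : Type*} [Group G] [Finite G]

theorem exists_norm {p : ℕ} [Fact p.Prime] {X : Set G} (hX : ∀ g x, x ∈ X → g * x * g⁻¹ ∈ X)
    {S D : Subgroup G} (hS : IsPGroup p S) (hD : D ≤ S) (h : ¬ X ∩ S ⊆ D) :
    ∃ x ∈ X, x ∈ S ∧ x ∉ D ∧ ∀ y ∈ X ∩ D, x * y * x⁻¹ ∈ X ∩ D := by
  obtain ⟨E, -, hE⟩ := Finite.exists_le_maximal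
    (p := fun E : Subgroup S => ∀ y : S, (y : G) ∈ X → (y ∈ E ↔ (y : G) ∈ D))
    (a := D.subgroupOf S) fun y _ => Iff.rfl
  have := hS.isNilpotent
  have h1 : E < ⊤ := lt_top_iff_ne_top.2 fun e => h fun y hy =>
    (hE.1 ⟨y, hy.2⟩ hy.1).1 (e ▸ mem_top _)
  have h2 := Group.normalizerCondition_of_isNilpotent E h1
  by_contra h3
  refine h2.not_ge (hE.2 (fun y hy => ⟨fun h4 => by_contra fun h5 => h3 ⟨y, hy, y.2, h5,
    fun z hz => ⟨hX _ _ hz.1, ?_⟩⟩, fun h4 => h2.le ((hE.1 y hy).2 h4)⟩) h2.le)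
  exact (hE.1 (y * ⟨z, hD hz.2⟩ * y⁻¹) (hX _ _ hz.1)).1
    ((mem_normalizer_iff.1 h4 _).1 ((hE.1 ⟨z, hD hz.2⟩ hz.1).2 hz.2))

theorem le_norm {I : Set G} {x : G} (h : ∀ y ∈ I, x * y * x⁻¹ ∈ I) :
    x ∈ normalizer ((closure I : Subgroup G) : Set G) := by
  refine mem_normalizer_fintype fun y hy => ?_
  refine closure_induction (fun y hy => subset_closure (h y hy)) (by simp)
    (fun a b _ _ ha hb => ?_) (fun a _ ha => ?_) hy
  · simpa [mul_assoc] using mul_mem ha hb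
  · simpa [mul_assoc] using inv_mem ha

theorem general {p : ℕ} [Fact p.Prime] {X : Set G} (hX : ∀ g x, x ∈ X → g * x * g⁻¹ ∈ X)
    (h : ∀ x ∈ X, ∀ y ∈ X, ∃ S : Subgroup G, IsPGroup p S ∧ x ∈ S ∧ y ∈ S ∧
      ∀ N : Subgroup G, x ∈ N → y ∈ N → S ≤ N) : IsPGroup p (closure X) := by
  let P : Set G → Prop := fun A => ∃ S : Subgroup G, IsPGroup p S ∧ A = X ∩ S
  have key : ∀ I : Set G, ∀ A B, Maximal P A → Maximal P B → A ∩ B = I → A = B := by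
    intro I
    induction I using WellFoundedGT.induction with
    | ind I ih =>
    rintro A B hA hB rfl
    by_contra hAB
    have aux : ∀ A B, Maximal P A → Maximal P B → A ≠ B → ∃ x ∈ A, x ∉ B ∧
        x ∈ normalizer ((closure (A ∩ B) : Subgroup G) : Set G) := by
      intro A B hA hB hAB
      obtain ⟨S, hS, rfl⟩ := hA.1
      obtain ⟨T, hT, rfl⟩ := hB.1
      obtain ⟨x, h1, h2, h3, h4⟩ := exists_norm hX hS (inf_le_left : S ⊓ T ≤ S) fun h =>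
        hAB (hA.eq_of_le hB.1 fun y hy => ⟨hy.1, (h hy).2⟩)
      exact ⟨x, ⟨h1, h2⟩, fun h => h3 ⟨h2, h.2⟩, le_norm fun y hy =>
        have := h4 y ⟨hy.1.1, hy.1.2, hy.2.2⟩
        ⟨⟨this.1, this.2.1⟩, this.1, this.2.2⟩⟩
    obtain ⟨x, x1, x2, x3⟩ := aux A B hA hB hAB
    obtain ⟨y, y1, y2, y3⟩ := aux B A hB hA (Ne.symm hAB)
    rw [Set.inter_comm] at y3
    obtain ⟨S, hS, rfl⟩ := hA.1
    obtain ⟨T, hT, rfl⟩ := hB.1
    obtain ⟨R, hR, r1, r2, r3⟩ := h x x1.1 y y1.1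
    have h1 := hR.to_sup_of_normal_right'
      (hS.to_le (K := S) (H := closure (X ∩ S ∩ (X ∩ T))) ((closure_le _).2 fun z hz => hz.1.2))
      (r3 _ x3 y3)
    obtain ⟨C, hC, hC'⟩ := Finite.exists_le_maximal (p := P) ⟨_, h1, rfl⟩
    have h2 : X ∩ S ∩ (X ∩ T) ⊆ C := fun z hz =>
      hC ⟨hz.1.1, mem_sup_right (subset_closure hz)⟩
    have h3 := ih _ (lt_of_le_of_ne (Set.subset_inter Set.inter_subset_left h2) fun e =>
      x2 (e.ge ⟨x1, hC ⟨x1.1, mem_sup_left r1⟩⟩).2) _ C hA hC' rfl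
    have h4 := ih _ (lt_of_le_of_ne (Set.subset_inter Set.inter_subset_right h2) fun e =>
      y2 (e.ge ⟨y1, hC ⟨y1.1, mem_sup_left r2⟩⟩).1) _ C hB hC' rfl
    exact hAB (h3.trans h4.symm)
  obtain ⟨A, -, hA⟩ := Finite.exists_le_maximal (p := P) ⟨⊥, IsPGroup.of_bot, rfl⟩
  obtain ⟨S, hS, rfl⟩ := hA.1
  refine hS.to_le ((closure_le _).2 fun x hx => ?_)
  obtain ⟨R, hR, r1, -⟩ := h x hx x hx
  obtain ⟨C, hC, hC'⟩ := Finite.exists_le_maximal (p := P) ⟨R, hR, rfl⟩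
  exact ((key _ _ _ hC' hA rfl).le (hC ⟨hx, r1⟩)).2

omit [Finite G] in
theorem pg_zpowers {p k : ℕ} {g : G} (h : g ^ p ^ k = 1) : IsPGroup p (zpowers g) := by
  rintro ⟨_, n, rfl⟩
  exact ⟨k, Subtype.ext (by
    change (g ^ n) ^ p ^ k = 1
    rw [← zpow_natCast, ← zpow_mul, mul_comm, zpow_mul, zpow_natCast, h, one_zpow])⟩

end Baer

open Baer in
/-- Baer–Suzuki for an involution. -/
theorem baer {G : Type*} [Group G] [Finite G] (w : G) (hw : w * w = 1)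
    (h : ∀ g, IsPGroup 2 (zpowers (w * (g * w * g⁻¹)))) : IsPGroup 2 (normalClosure {w}) := by
  have : Fact (Nat.Prime 2) := ⟨Nat.prime_two⟩
  have hm : ∀ x, x ∈ Group.conjugatesOfSet ({w} : Set G) ↔ ∃ c, c * w * c⁻¹ = x := fun x => by
    simp [Group.mem_conjugatesOfSet_iff, isConj_iff]
  refine general (fun g x hx => Group.conj_mem_conjugatesOfSet hx) fun x hx y hy => ?_
  obtain ⟨a, rfl⟩ := (hm x).1 hx
  obtain ⟨b, rfl⟩ := (hm y).1 hy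
  obtain ⟨k, hk⟩ := h (a⁻¹ * b) ⟨_, mem_zpowers _⟩
  have h1 : (w * (a⁻¹ * b * w * (a⁻¹ * b)⁻¹)) ^ 2 ^ k = 1 := congrArg Subtype.val hk
  have h2 : ∀ c : G, (c * w * c⁻¹) * (c * w * c⁻¹) = 1 := fun c => by
    rw [show (c * w * c⁻¹) * (c * w * c⁻¹) = c * (w * w) * c⁻¹ by group, hw]; simp
  have h3 : (a * w * a⁻¹ * (b * w * b⁻¹)) ^ 2 ^ k = 1 := by
    rw [show a * w * a⁻¹ * (b * w * b⁻¹) = a * (w * (a⁻¹ * b * w * (a⁻¹ * b)⁻¹)) * a⁻¹ by group,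
      conj_pow, h1]
    simp
  have ha := h2 a
  have hb := h2 b
  generalize a * w * a⁻¹ = x at h3 ha
  generalize b * w * b⁻¹ = y at h3 hb
  have h4 : x * (x * y) * x⁻¹ = (x * y)⁻¹ := by
    rw [← mul_assoc, ha, one_mul, mul_inv_rev, inv_eq_of_mul_eq_one_right hb]
  refine ⟨zpowers x ⊔ zpowers (x * y), (pg_zpowers (k := 1) (by rw [pow_one, sq, ha])).to_sup_of_normal_right' (pg_zpowers h3) ?_, mem_sup_left (mem_zpowers _), ?_,
    fun N h5 h6 => sup_le (zpowers_le.2 h5) (zpowers_le.2 (N.mul_mem h5 h6))⟩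
  · refine zpowers_le.2 (mem_normalizer_fintype ?_)
    rintro _ ⟨n, rfl⟩
    exact ⟨-n, by simp only [← conj_zpow, h4, inv_zpow', ]⟩
  · have := mul_mem (mem_sup_left (mem_zpowers x) : x ∈ zpowers x ⊔ zpowers (x * y))
      (mem_sup_right (mem_zpowers (x * y)))
    rwa [← mul_assoc, ha, one_mul] at this

end Cfsg.Agent.SE
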