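import Cfsg.Agent.SE.CK1
import Cfsg.Agent.H4.OddTrans

/-!
Case (C): the inverted elements form a cyclic group on which `D` acts by field automorphisms.
-/

set_option autoImplicit false
set_option linter.unusedSectionVars false
set_option linter.style.haveILetI false

namespace Cfsg.Agent.SE.CK
open Module MulAction Cfsg.Agent.H5.Invol Cfsg.Agent.H4

variable {G Ω : Type*} [Group G] [Finite G] [MulAction G Ω] {a : Ω} {t : G}

/-- The vector space of involutions. -/
def EE (hS : CD G Ω a t) : Type _ := Additive (ZZ hS.ea)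

variable (hS : CD G Ω a t)

instance instAddCommGroupCEE : AddCommGroup (EE hS) :=
  { (inferInstance : AddGroup (Additive (ZZ hS.ea))) with
    add_comm := fun x y => Subtype.ext (ZZ_comm hS.ea x.2 y.2) }

instance instFiniteCEE : Finite (EE hS) := inferInstanceAs (Finite (ZZ hS.ea))

theorem two_smul_EE (e : EE hS) : 2 • e = 0 := by
  rw [two_nsmul]
  exact Subtype.ext e.2.2

noncomputable instance instModuleCEE : Module (ZMod 2) (EE hS) :=
  AddCommGroup.zmodModule (two_smul_EE hS)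

/-- The underlying element. -/
def EE.val {hS : CD G Ω a t} (e : EE hS) : G := (Additive.toMul e : ZZ hS.ea).1

theorem EE.ext {hS : CD G Ω a t} {e f : EE hS} (h : e.val = f.val) : e = f :=
  Subtype.ext h

theorem EE.fix {hS : CD G Ω a t} (e : EE hS) : e.val • a = a := e.2.1
theorem EE.sq {hS : CD G Ω a t} (e : EE hS) : e.val * e.val = 1 := e.2.2
theorem EE.ne_one {hS : CD G Ω a t} {e : EE hS} (h : e ≠ 0) : e.val ≠ 1 :=
  fun h1 => h (EE.ext h1)

/-- Build a vector. -/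
def EE.mk {s : G} (h1 : s • a = a) (h2 : s * s = 1) : EE hS := Additive.ofMul ⟨s, h1, h2⟩

/-- The conjugation action of `D`. -/
noncomputable def rho : D2 G a (t • a) →* End (ZMod 2) (EE hS) where
  toFun d := AddMonoidHom.toZModLinearMap 2
    { toFun := fun e => EE.mk hS (s := d * e.val * (d : G)⁻¹) (by
        rw [mul_smul, mul_smul, inv_smul_eq_iff.2 (mem_D2.1 d.2).1.symm, e.fix, (mem_D2.1 d.2).1])
        (by
          calc d * e.val * (d : G)⁻¹ * (d * e.val * (d : G)⁻¹) = d * (e.val * e.val) * (d : G)⁻¹ := by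
                group
            _ = 1 := by rw [e.sq]; group)
      map_zero' := EE.ext (by change (d : G) * 1 * (d : G)⁻¹ = 1; group)
      map_add' := fun e f => EE.ext (by
        change (d : G) * (e.val * f.val) * (d : G)⁻¹ =
          d * e.val * (d : G)⁻¹ * (d * f.val * (d : G)⁻¹)
        group) }
  map_one' := by
    refine LinearMap.ext fun e => EE.ext ?_
    change ((1 : D2 G a (t • a)) : G) * e.val * ((1 : D2 G a (t • a)) : G)⁻¹ = e.val
    simp
  map_mul' d d' := by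
    refine LinearMap.ext fun e => EE.ext ?_
    change ((d * d' : D2 G a (t • a)) : G) * e.val * ((d * d' : D2 G a (t • a)) : G)⁻¹ =
      d * (d' * e.val * (d' : G)⁻¹) * (d : G)⁻¹
    simp [mul_assoc]

theorem rho_val (d : D2 G a (t • a)) (e : EE hS) : (rho hS d e).val = d * e.val * (d : G)⁻¹ := rfl

theorem rho_trans {e f : EE hS} (he : e ≠ 0) (hf : f ≠ 0) :
    ∃ k : D2 G a (t • a), (k : G) ∈ invertedBy (D2 G a (t • a)) t ∧ rho hS k e = f := by
  obtain ⟨k, hk, h⟩ := hS.surj ⟨EE.ne_one he, e.sq⟩ e.fix ⟨EE.ne_one hf, f.sq⟩ f.fix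
  exact ⟨⟨k, hk.1⟩, hk, EE.ext h⟩

theorem rho_K_inj {k l : D2 G a (t • a)} (hk : (k : G) ∈ invertedBy (D2 G a (t • a)) t)
    (hl : (l : G) ∈ invertedBy (D2 G a (t • a)) t) {e : EE hS} (he : e ≠ 0)
    (h : rho hS k e = rho hS l e) : k = l := by
  exact Subtype.ext (hS.inj hk hl ⟨EE.ne_one he, e.sq⟩ e.fix (congrArg EE.val h))

omit [Finite G] in
theorem exists_s : ∃ e : EE hS, e ≠ 0 := by
  obtain ⟨u, -, hu, -, -, hua, -⟩ := hS.rk
  exact ⟨EE.mk hS hua hu.2, fun h => hu.1 (congrArg EE.val h)⟩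

theorem rho_eq_one {d : D2 G a (t • a)} (h : ∀ e, rho hS d e = e) : (d : G) ∈ CZ G a :=
  mem_CZ.2 fun u h1 h2 => by
    have : d * u * (d : G)⁻¹ = u := congrArg EE.val (h (EE.mk hS h2 h1.2))
    exact (mul_inv_eq_iff_eq_mul.1 this).symm

/-- Conjugation by `t` on `D`. -/
def tau : D2 G a (t • a) →* D2 G a (t • a) where
  toFun d := ⟨t * d * t⁻¹, by rw [hS.inv.inv_eq]; exact conj_D2 hS.inv d.2⟩
  map_one' := by ext; simp
  map_mul' d d' := by ext; simp [mul_assoc]

omit [Finite G] in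
theorem tau_tau (d : D2 G a (t • a)) : tau hS (tau hS d) = d := by
  ext
  change t * (t * d * t⁻¹) * t⁻¹ = d
  calc t * (t * d * t⁻¹) * t⁻¹ = (t * t) * d * (t * t)⁻¹ := by group
    _ = d := by rw [hS.inv.2]; simp

omit [Finite G] in
theorem tau_V {d : D2 G a (t • a)} (h : (d : G) * t = t * d) : tau hS d = d := by
  ext
  change t * d * t⁻¹ = d
  rw [← h, mul_inv_cancel_right]

omit [Finite G] in
theorem tau_K {d : D2 G a (t • a)} (h : (d : G) ∈ invertedBy (D2 G a (t • a)) t) : tau hS d = d⁻¹ :=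
  Subtype.ext h.2

include hS in
theorem exists_gen : ∃ k₀ : G, invertedBy (D2 G a (t • a)) t = (Subgroup.zpowers k₀ : Set G) := by
  obtain ⟨s, hs0⟩ := exists_s hS
  haveI : Nontrivial (EE hS) := ⟨⟨s, 0, hs0⟩⟩
  let ψ := (rho hS).toHomUnits.rangeRestrict
  have hψ : ∀ d e, ψ d • e = rho hS d e := fun d e => rfl
  have hψs : Function.Surjective ψ := MonoidHom.rangeRestrict_surjective _
  haveI : Finite (rho hS).toHomUnits.range := Finite.of_surjective ψ hψs
  have hodd : Odd (Nat.card (rho hS).toHomUnits.range) :=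
    Odd.of_dvd_nat hS.odd_D (Subgroup.card_range_dvd _)
  obtain ⟨hF1, hF2, hF3⟩ := OddTrans.main (E := EE hS) hodd Nat.prime_two (two_smul_EE hS)
    (fun e f he hf => by
      obtain ⟨k, -, hk⟩ := rho_trans hS he hf
      exact ⟨ψ k, hk⟩)
  set F := Cfsg.fittingSubgroup (rho hS).toHomUnits.range with hF
  haveI hFn : F.Normal := OddTrans.fitting_normal _
  have hW : ∀ d, ψ d = 1 → tau hS d = d := fun d hd =>
    tau_V hS (hS.W_le d.2 (rho_eq_one hS fun e => by rw [← hψ, hd, one_smul]))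
  have hWτ : ∀ d d', ψ d = ψ d' → ψ (tau hS d) = ψ (tau hS d') := by
    intro d d' h
    have h1 : ψ (d⁻¹ * d') = 1 := by rw [map_mul, map_inv, h, inv_mul_cancel]
    have h2 := hW _ h1
    rw [← h2, map_mul, map_mul, map_inv, map_inv, inv_mul_eq_one] at h1
    exact h1
  have hsq : ∀ d, ψ d * ψ d ∈ F → ψ d ∈ F := by
    intro d hd
    have := eq_sq_pow_of_odd hodd (pow_card_eq_one' (x := ψ d))
    rw [← this]
    exact F.pow_mem hd _
  have hfac : ∀ d : D2 G a (t • a), ∃ v k : D2 G a (t • a), (v : G) * t = t * v ∧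
      (k : G) ∈ invertedBy (D2 G a (t • a)) t ∧ d = v * k := by
    intro d
    obtain ⟨v, k, h1, h2, h3, h4⟩ := hS.factor d.2
    exact ⟨⟨v, h1⟩, ⟨k, h3.1⟩, h2, h3, Subtype.ext h4⟩
  have hVF : ∀ v : D2 G a (t • a), (v : G) * t = t * v → ψ v ∈ F → ψ v = 1 := by
    intro v hv hvF
    refine mem_of_parts (S := ψ.ker) fun p n j hp e => ?_
    by_contra hne
    obtain ⟨u, h1, h2, h3⟩ := hS.V_cent (v := (v ^ n : D2 G a (t • a))) hp (congrArg Subtype.val e)
      (v ^ n).2 ((show Commute (v : G) t from hv).pow_left n)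
    refine h1.1 (congrArg EE.val (hF2 (ψ (v ^ n)) (by rw [map_pow]; exact F.pow_mem hvF n) hne
      (EE.mk hS h2 h1.2) (EE.ext ?_)))
    change ((v ^ n : D2 G a (t • a)) : G) * u * _ = u
    rw [← h3, mul_inv_cancel_right]
  obtain ⟨⟨f', hf'⟩, hf⟩ := IsCyclic.exists_generator (α := F)
  obtain ⟨f, rfl⟩ := hψs f'
  have hgen : ∀ d, ψ d ∈ F → ∃ j : ℤ, ψ d = ψ (f ^ j) := by
    intro d hd
    obtain ⟨j, hj⟩ := hf ⟨_, hd⟩
    exact ⟨j, by rw [map_zpow]; exact (congrArg Subtype.val hj).symm⟩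
  have hτf : ψ (tau hS f) ∈ F := by
    refine OddTrans.le_fitting (Subgroup.zpowers (ψ (tau hS f))) ⟨?_⟩ ?_ (Subgroup.mem_zpowers _)
    · rintro _ ⟨i, rfl⟩ g
      obtain ⟨d, rfl⟩ := hψs g
      simp only
      rw [← conj_zpow]
      refine Subgroup.zpow_mem _ ?_ i
      obtain ⟨j, hj⟩ := hgen (tau hS d * f * (tau hS d)⁻¹) (by
        rw [map_mul, map_mul, map_inv]; exact hFn.conj_mem _ hf' _)
      have := hWτ _ _ hj
      simp only [map_mul, map_inv, tau_tau, map_zpow] at this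
      rw [this]
      exact Subgroup.zpow_mem_zpowers _ j
    · letI := IsCyclic.commGroup (α := Subgroup.zpowers (ψ (tau hS f)))
      infer_instance
  have hτF : ∀ d, ψ d ∈ F → ψ (tau hS d) ∈ F := by
    intro d hd
    obtain ⟨j, hj⟩ := hgen d hd
    rw [hWτ _ _ hj, map_zpow, map_zpow]
    exact F.zpow_mem hτf j
  -- the quotient by `F`
  let π := (QuotientGroup.mk' F).comp ψ
  have hπ : ∀ d, π d = 1 ↔ ψ d ∈ F := fun d => QuotientGroup.eq_one_iff _
  have hπc : ∀ d d', π d * π d' = π d' * π d := by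
    intro d d'
    rw [← commutatorElement_eq_one_iff_mul_comm, ← map_commutatorElement, hπ, map_commutatorElement]
    exact hF3 (Subgroup.commutator_mem_commutator (Subgroup.mem_top _) (Subgroup.mem_top _))
  let J : Subgroup (D2 G a (t • a)) :=
    { carrier := {d | π (tau hS d) = (π d)⁻¹}
      one_mem' := by simp
      mul_mem' := by
        intro x y hx hy
        simp only [Set.mem_setOf_eq, map_mul] at *
        rw [hx, hy, hπc x y, mul_inv_rev]
      inv_mem' := by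
        intro x hx
        simp only [Set.mem_setOf_eq, map_inv] at *
        rw [hx] }
  have hJ : ∀ d, d ∈ J ↔ π (tau hS d) = (π d)⁻¹ := fun d => Iff.rfl
  have hKJ : ∀ k : D2 G a (t • a), (k : G) ∈ invertedBy (D2 G a (t • a)) t → k ∈ J := fun k hk => by
    rw [hJ, tau_K hS hk, map_inv]
  have hJK : ∀ d ∈ J, ∃ k : D2 G a (t • a), (k : G) ∈ invertedBy (D2 G a (t • a)) t ∧ ψ d = ψ k := by
    intro d hd
    obtain ⟨v, k, hv, hk, rfl⟩ := hfac d
    have h1 : v ∈ J := (J.mul_mem_cancel_right (hKJ k hk)).1 hd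
    rw [hJ, tau_V hS hv, eq_inv_iff_mul_eq_one, ← map_mul, hπ, map_mul] at h1
    exact ⟨k, hk, by rw [map_mul, hVF v hv (hsq v h1), one_mul]⟩
  have hKc : ∀ k l : D2 G a (t • a), (k : G) ∈ invertedBy (D2 G a (t • a)) t →
      (l : G) ∈ invertedBy (D2 G a (t • a)) t → ψ k * ψ l = ψ l * ψ k := by
    intro k l hk hl
    obtain ⟨m, hm, h1⟩ := hJK _ (J.mul_mem (hKJ k hk) (hKJ l hl))
    have h2 := hWτ _ _ h1
    rw [map_mul, tau_K hS hk, tau_K hS hl, tau_K hS hm, map_inv ψ m, ← h1, map_mul, map_mul,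
      map_inv, map_inv, ← mul_inv_rev, inv_inj] at h2
    exact h2.symm
  have hJF : J.map ψ ≤ F := by
    refine OddTrans.le_fitting _ (Subgroup.Normal.map ⟨fun d hd g => ?_⟩ ψ hψs) ?_
    · rw [hJ] at hd ⊢
      simp only [map_mul, map_inv, hd]
      rw [← map_inv, ← map_inv, ← map_inv, hπc (tau hS g), hπc g d]
      simp
    · letI : CommGroup (J.map ψ) := { (inferInstance : Group (J.map ψ)) with
        mul_comm := by
          rintro ⟨_, x, hx, rfl⟩ ⟨_, y, hy, rfl⟩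
          obtain ⟨k, hk, h1⟩ := hJK x hx
          obtain ⟨l, hl, h2⟩ := hJK y hy
          ext1
          change ψ x * ψ y = ψ y * ψ x
          rw [h1, h2, hKc k l hk hl] }
      infer_instance
  obtain ⟨k₀, hk₀, h0⟩ := hJK f (by
    rw [hJ, (hπ _).2 hτf, (hπ _).2 hf', inv_one])
  refine ⟨k₀, Set.ext fun k => ⟨fun hk => ?_, ?_⟩⟩
  · obtain ⟨j, hj⟩ := hgen ⟨k, hk.1⟩ (hJF ⟨_, hKJ ⟨k, hk.1⟩ hk, rfl⟩)
    rw [map_zpow, h0, ← map_zpow] at hj
    have := rho_K_inj hS (k := ⟨k, hk.1⟩) (l := k₀ ^ j) hk (inverted_zpow hk₀ j) hs0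
      (by rw [← hψ, hj, hψ])
    exact ⟨j, (congrArg Subtype.val this).symm⟩
  · rintro ⟨j, rfl⟩
    exact inverted_zpow hk₀ j

include hS in
theorem K_normal {k₀ : G} (h : invertedBy (D2 G a (t • a)) t = (Subgroup.zpowers k₀ : Set G)) {d c : G}
    (hd : d ∈ D2 G a (t • a)) (hc : c ∈ Subgroup.zpowers k₀) : d * c * d⁻¹ ∈ Subgroup.zpowers k₀ := by
  obtain ⟨v, k, h1, h2, h3, rfl⟩ := hS.factor hd
  have h4 : k * c * k⁻¹ ∈ invertedBy (D2 G a (t • a)) t := by
    rw [h] at h3 ⊢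
    exact Subgroup.mul_mem _ (Subgroup.mul_mem _ h3 hc) (Subgroup.inv_mem _ h3)
  have := inverted_conj h4 h1 h2
  rw [h] at this
  have e : v * k * c * (v * k)⁻¹ = v * (k * c * k⁻¹) * v⁻¹ := by group
  rw [e]
  exact this

include hS in
theorem conj_pow {k₀ : G} (hk₀ : invertedBy (D2 G a (t • a)) t = (Subgroup.zpowers k₀ : Set G))
    {d : G} (hd : d ∈ D2 G a (t • a)) : ∃ j : ℕ, d * k₀ * d⁻¹ = k₀ ^ 2 ^ j := by
  obtain ⟨s, hs0⟩ := exists_s hS
  haveI : Nontrivial (EE hS) := ⟨⟨s, 0, hs0⟩⟩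
  have hk : k₀ ∈ invertedBy (D2 G a (t • a)) t := by rw [hk₀]; exact Subgroup.mem_zpowers k₀
  let k : D2 G a (t • a) := ⟨k₀, hk.1⟩
  let R := Subalgebra.centralizer (ZMod 2) {rho hS k}
  have hR : ∀ c, c ∈ R ↔ rho hS k * c = c * rho hS k := fun c => by
    simp [R, Subalgebra.mem_centralizer_iff]
  have hRz : ∀ c ∈ R, ∀ l : D2 G a (t • a), (l : G) ∈ Subgroup.zpowers k₀ →
      rho hS l * c = c * rho hS l := by
    intro c hc l hl
    rw [← mem_powers_iff_mem_zpowers] at hl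
    obtain ⟨j, hj⟩ := hl
    have : l = k ^ j := Subtype.ext hj.symm
    rw [this, map_pow]
    exact ((show Commute (rho hS k) c from (hR c).1 hc).pow_left j).eq
  haveI : Finite (End (ZMod 2) (EE hS)) := Finite.of_injective _ DFunLike.coe_injective
  haveI : NoZeroDivisors R := ⟨fun {x y} hxy => by
    by_contra hcon
    push Not at hcon
    obtain ⟨e, he⟩ : ∃ e, y.1 e ≠ 0 := by
      by_contra h
      push Not at h
      exact hcon.2 (Subtype.ext (LinearMap.ext h))
    apply hcon.1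
    refine Subtype.ext (LinearMap.ext fun f => ?_)
    by_cases hf : f = 0
    · rw [hf, map_zero, map_zero]
    obtain ⟨l, hl, rfl⟩ := rho_trans hS he hf
    rw [hk₀] at hl
    have h1 : x.1 (y.1 e) = 0 := congrArg (fun c : R => c.1 e) hxy
    rw [← End.mul_apply, ← hRz _ x.2 l hl, End.mul_apply, h1, map_zero]
    rfl⟩
  haveI : IsDomain R := NoZeroDivisors.to_isDomain R
  letI := (Finite.isDomain_to_isField R).toField
  have hconj : ∀ (d : D2 G a (t • a)) (c : R), rho hS d * c * rho hS d⁻¹ ∈ R := by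
    intro d c
    have h1 := hRz _ c.2 (d⁻¹ * k * d) (by
      have := K_normal hS hk₀ ((D2 G a (t • a)).inv_mem d.2) (Subgroup.mem_zpowers k₀)
      simpa using this)
    rw [hR]
    calc rho hS k * (rho hS d * c * rho hS d⁻¹) =
          rho hS d * (rho hS (d⁻¹ * k * d) * c) * rho hS d⁻¹ := by
            simp only [← mul_assoc, ← map_mul, mul_inv_cancel, one_mul]
      _ = rho hS d * c * rho hS d⁻¹ * rho hS k := by
            rw [h1]
            simp only [mul_assoc, ← map_mul, mul_inv_cancel, mul_one]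
  have hcan : ∀ (d : D2 G a (t • a)), rho hS d * rho hS d⁻¹ = 1 := fun d => by
    rw [← map_mul, mul_inv_cancel, map_one]
  have hcan' : ∀ (d : D2 G a (t • a)), rho hS d⁻¹ * rho hS d = 1 := fun d => by
    rw [← map_mul, inv_mul_cancel, map_one]
  let Φ : D2 G a (t • a) →* (R ≃ₐ[ZMod 2] R) :=
    { toFun := fun d =>
        { toFun := fun c => ⟨_, hconj d c⟩
          invFun := fun c => ⟨_, hconj d⁻¹ c⟩
          left_inv := fun c => by
            ext1
            simp only [inv_inv, ← mul_assoc, hcan', one_mul]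
            rw [mul_assoc, hcan', mul_one]
          right_inv := fun c => by
            ext1
            simp only [inv_inv, ← mul_assoc, hcan, one_mul]
            rw [mul_assoc, hcan, mul_one]
          map_mul' := fun x y => by
            ext1
            simp only [MulMemClass.coe_mul, ← mul_assoc]
            rw [mul_assoc _ (rho hS d⁻¹) (rho hS d), hcan', mul_one]
          map_add' := fun x y => by
            ext1
            simp only [AddMemClass.coe_add, mul_add, add_mul]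
          commutes' := fun r => by
            ext1
            change rho hS d * algebraMap _ _ r * rho hS d⁻¹ = algebraMap _ _ r
            rw [← Algebra.commutes, mul_assoc, hcan, mul_one] }
      map_one' := by
        ext1 c
        ext1
        simp
      map_mul' := fun d d' => by
        ext1 c
        ext1
        simp [mul_assoc] }
  have hΦ : ∀ d c, (Φ d c).1 = rho hS d * c * rho hS d⁻¹ := fun d c => rfl
  haveI : Fact (Nat.Prime 2) := ⟨Nat.prime_two⟩
  obtain ⟨j, hj⟩ := FiniteField.exists_forall_apply_eq_pow (ZMod 2) 2 R (Φ ⟨d, hd⟩)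
  refine ⟨j, ?_⟩
  have h1 := hΦ ⟨d, hd⟩ ⟨rho hS k, (hR _).2 rfl⟩
  rw [hj, Nat.card_zmod] at h1
  have h2 : rho hS (k ^ 2 ^ j) = rho hS (⟨d, hd⟩ * k * ⟨d, hd⟩⁻¹) := by
    rw [map_pow, map_mul, map_mul]; exact h1
  exact congrArg Subtype.val (rho_K_inj hS (k := ⟨d, hd⟩ * k * ⟨d, hd⟩⁻¹) (l := k ^ 2 ^ j) (by
    rw [hk₀]; exact K_normal hS hk₀ hd (Subgroup.mem_zpowers k₀)) (inverted_pow hk _) hs0
    (by rw [h2]))

include hS in
theorem order_gen {k₀ : G} (hk₀ : invertedBy (D2 G a (t • a)) t = (Subgroup.zpowers k₀ : Set G)) :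
    ∃ n : ℕ, 2 ≤ n ∧ orderOf k₀ + 1 = 2 ^ n := by
  haveI : Fact (Nat.Prime 2) := ⟨Nat.prime_two⟩
  obtain ⟨n, hn⟩ := IsPGroup.iff_card.1 (show IsPGroup 2 (ZZ hS.ea) from fun x =>
    ⟨1, Subtype.ext (by simpa [sq] using x.2.2)⟩)
  obtain ⟨u, v, hu, hv, huv, hua, hva⟩ := hS.rk
  have h1 := hS.card_K (X := ⊤) hS.inv trivial hS.ne ⟨u, trivial, hu, hua⟩
  rw [top_inf_eq, hk₀, ← Nat.card_coe_set_eq] at h1
  have h2 : II (⊤ : Subgroup G) a = (ZZ hS.ea : Set G) \ {1} := by
    ext x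
    exact ⟨fun hx => ⟨⟨hx.2.2, hx.2.1.2⟩, hx.2.1.1⟩, fun hx => ⟨trivial, ⟨hx.2, hx.1.2⟩, hx.1.1⟩⟩
  have h3 : mm (⊤ : Subgroup G) a + 1 = 2 ^ n := by
    rw [mm, h2, Set.ncard_sdiff_singleton_add_one (one_mem _), ← hn, ← Nat.card_coe_set_eq]
    rfl
  have h4 : 2 ≤ mm (⊤ : Subgroup G) a :=
    (Set.one_lt_ncard (Set.toFinite _)).2 ⟨u, ⟨trivial, hu, hua⟩, v, ⟨trivial, hv, hva⟩, huv⟩
  refine ⟨n, ?_, by rw [← h3, ← h1, ← Nat.card_zpowers]; rfl⟩
  by_contra! h5
  interval_cases n <;> omega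

include hS in
theorem cent_gen {k₀ : G} (hk₀ : invertedBy (D2 G a (t • a)) t = (Subgroup.zpowers k₀ : Set G))
    (hW : D2 G a (t • a) ⊓ CZ G a = ⊥) {d : G} (hd : d ∈ D2 G a (t • a)) (h : d * k₀ = k₀ * d) :
    d ∈ Subgroup.zpowers k₀ := by
  obtain ⟨v, k, h1, h2, h3, rfl⟩ := hS.factor hd
  rw [hk₀] at h3
  have h4 : v * k₀ = k₀ * v := by
    have := (mem_C_zpowers.2 (rfl : k₀ * k₀ = k₀ * k₀)) k h3
    rw [mul_assoc, this, ← mul_assoc, ← mul_assoc] at h
    exact mul_right_cancel h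
  have h5 : v ∈ CZ G a := mem_of_parts fun p n j hp e => by
    obtain ⟨u, hu, hua, h6⟩ := hS.V_cent hp e (pow_mem h1 n)
      ((show Commute v t from h2).pow_left n)
    refine mem_CZ.2 fun w hw hwa => ?_
    obtain ⟨l, hl, rfl⟩ := hS.surj hu hua hw hwa
    rw [hk₀] at hl
    have h7 : Commute l (v ^ n) :=
      (mem_C_zpowers.2 ((show Commute v k₀ from h4).pow_left n)) l hl
    exact (h7.mul_left h6).mul_left h7.inv_left
  have h6 : v = 1 := Subgroup.mem_bot.1 (hW ▸ ⟨h1, h5⟩)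
  rw [h6, one_mul]
  exact h3

end Cfsg.Agent.SE.CK
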