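import Cfsg.Agent.SE.CQ
import Cfsg.Agent.H4.Frobenius

/-!
Case (C): `D` acts faithfully on the involutions and the transfer to `D / K` is onto.
-/

set_option autoImplicit false
set_option linter.style.haveILetI false

namespace Cfsg.Agent.SE
open MulAction Cfsg.Agent.H5.Invol
open Subgroup (centralizer normalizer zpowers)

theorem transfer_const {G A : Type*} [Group G] [Finite G] [CommGroup A] {H : Subgroup G}
    (φ : H →* A) {x : G} {c : A}
    (key : ∀ (k : ℕ) (g : G) (h : g⁻¹ * x ^ k * g ∈ H), φ ⟨_, h⟩ = c ^ k) :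
    MonoidHom.transfer φ x = c ^ H.index := by
  classical
  haveI := Fintype.ofFinite (Quotient (orbitRel (zpowers x) (G ⧸ H)))
  rw [MonoidHom.transfer_eq_prod_quotient_orbitRel_zpowers_quot,
    Subgroup.index_eq_sum_minimalPeriod H x, ← Finset.prod_pow_eq_pow_sum]
  exact Finset.prod_congr rfl fun q _ => key _ _ _

variable {G Ω : Type*} [Group G] [Finite G] [MulAction G Ω] {a : Ω} {t : G}

theorem CD.orbit_eq (h : CD G Ω a t) : orbit (stabilizer G a) (t • a) = {a}ᶜ := by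
  ext c
  constructor
  · rintro ⟨g, rfl⟩ e
    exact h.ne (smul_left_cancel (g : G) (e.trans g.2.symm))
  · intro hc
    obtain ⟨g, h1, h2⟩ := h.trans h.ne hc
    exact ⟨⟨g, h1⟩, h2⟩

theorem CD.finite (h : CD G Ω a t) : Finite Ω := by
  have : ({a}ᶜ : Set Ω).Finite := h.orbit_eq ▸ Set.finite_range _
  exact Set.finite_univ_iff.1 (by simpa using (Set.finite_singleton a).union this)

/-- The conclusion from a normal subgroup `L` of `G_a` with `G_a = L D`, `L ∩ D ≤ K`. -/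
theorem CD.concl_of_L (h : CD G Ω a t) (L : Subgroup (stabilizer G a)) [hL : L.Normal]
    (h3 : ∀ x ∈ L, (x : G) • t • a = t • a → (x : G) ∈ invertedBy (D2 G a (t • a)) t)
    (h4 : ∀ g : stabilizer G a, ∃ x ∈ L, (x : G) • t • a = (g : G) • t • a)
    {u : G} (hu : Inv u) (hua : u • a = a) (huL : (⟨u, hua⟩ : stabilizer G a) ∈ L) :
    Concl G Ω := by
  have := h.finite
  let b : SubMulAction.ofStabilizer G a := ⟨t • a, h.ne⟩
  have tr : ∀ c : SubMulAction.ofStabilizer G a, ∃ x : L, x • b = c := fun c => by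
    obtain ⟨g, h1, h2⟩ := h.trans h.ne c.2
    obtain ⟨x, hx, e⟩ := h4 ⟨g, h1⟩
    exact ⟨⟨x, hx⟩, Subtype.ext (e.trans h2)⟩
  haveI : IsPretransitive L (SubMulAction.ofStabilizer G a) := ⟨fun c d => by
    obtain ⟨x, rfl⟩ := tr c
    obtain ⟨y, rfl⟩ := tr d
    exact ⟨y * x⁻¹, by rw [mul_smul, inv_smul_smul]⟩⟩
  obtain ⟨N, -, h5, -, h6⟩ := H4.Frobenius.exists_regular_kernel (G := L)
    (X := SubMulAction.ofStabilizer G a) (fun g c d hcd hc hd => by
      obtain ⟨x, rfl⟩ := tr c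
      by_contra hg
      have h7 : (x⁻¹ * g * x) • b = b := by rw [mul_smul, mul_smul, hc, inv_smul_smul]
      have h8 : (x⁻¹ * g * x) • x⁻¹ • d = x⁻¹ • d := by rw [mul_smul, mul_smul, smul_inv_smul, hd]
      rcases h.K_fix (h3 _ (x⁻¹ * g * x).2 (congrArg Subtype.val h7)) (fun e => hg (by
        have : x⁻¹ * g * x = 1 := Subtype.ext (Subtype.ext e)
        simpa [mul_assoc, inv_mul_eq_iff_eq_mul] using this)) (congrArg Subtype.val h8) with e | e
      · exact (x⁻¹ • d).2 e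
      · exact hcd (by rw [← show x⁻¹ • d = b from Subtype.ext e, smul_inv_smul])) b
  refine h.concl_of (Q := (N.map L.subtype).map (stabilizer G a).subtype) ?_ ?_ ?_ ?_ hu
    ⟨_, ⟨⟨_, huL⟩, (h5 _).2 (Or.inr fun c e => h.smul_ne hu hua c.2 (congrArg Subtype.val e)),
      rfl⟩, rfl⟩
  · rintro _ ⟨x, -, rfl⟩
    exact x.2
  · rintro g hg _ ⟨_, ⟨x, hx, rfl⟩, rfl⟩
    refine ⟨_, ⟨⟨_, hL.conj_mem _ x.2 ⟨g, hg⟩⟩, (h5 _).2 ?_, rfl⟩, rfl⟩
    refine ((h5 _).1 hx).imp (fun e => by simp [e]) fun e c e' => e ((⟨g, hg⟩ : stabilizer G a)⁻¹ • c) ?_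
    have : ((⟨g, hg⟩ : stabilizer G a) * x * ⟨g, hg⟩⁻¹) • c = c := e'
    rw [mul_smul, mul_smul, ← eq_inv_smul_iff] at this
    exact this
  · rintro _ ⟨_, ⟨x, hx, rfl⟩, rfl⟩ e
    rcases (h5 _).1 hx with e' | e'
    · simp [e']
    · exact (e' b (Subtype.ext e)).elim
  · intro g hg
    obtain ⟨x, e, -⟩ := h6 b ((⟨g, hg⟩ : stabilizer G a) • b)
    exact ⟨_, ⟨_, ⟨x, x.2, rfl⟩, rfl⟩, congrArg Subtype.val e⟩

theorem CD.concl_L (h : CD G Ω a t) (hW : D2 G a (t • a) ⊓ CZ G a = ⊥)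
    (hres : ∀ (x u : G) (p : ℕ), p.Prime → x ∈ D2 G a (t • a) → x ≠ 1 → x ^ p = 1 → Inv u →
      u • a = a → u * x = x * u → ∃ v, Inv v ∧ v • a = a ∧ v * x = x * v ∧ v ≠ u) :
    Concl G Ω := by
  have := h.finite
  obtain ⟨k₀, hk₀⟩ := CK.exists_gen h
  have hK : ∀ {k}, k ∈ invertedBy (D2 G a (t • a)) t ↔ k ∈ zpowers k₀ := by rw [hk₀]; rfl
  let T := stabilizer (stabilizer G a) (t • a)
  let ι : T →* G := (stabilizer G a).subtype.comp T.subtype
  have hι : ∀ d : T, ι d ∈ D2 G a (t • a) := fun d => ⟨d.1.2, d.2⟩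
  let K := (zpowers k₀).comap ι
  haveI : K.Normal := ⟨fun k hk d => CK.K_normal h hk₀ (hι d) hk⟩
  letI : CommGroup (T ⧸ K) := { (inferInstance : Group (T ⧸ K)) with
    mul_comm := by
      rintro ⟨d⟩ ⟨e⟩
      refine QuotientGroup.eq.2 (CK.cent_gen h hk₀ hW (hι _) ?_)
      obtain ⟨i, hi⟩ := CK.conj_pow h hk₀ (hι d)
      obtain ⟨j, hj⟩ := CK.conj_pow h hk₀ (hι e)
      have : ι d * (ι e * k₀ * (ι e)⁻¹) * (ι d)⁻¹ = ι e * (ι d * k₀ * (ι d)⁻¹) * (ι e)⁻¹ := by
        rw [hi, hj, ← conj_pow, ← conj_pow, hi, hj, ← pow_mul, ← pow_mul, mul_comm]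
      simp only [map_mul, map_inv]
      calc _ = (ι d * ι e)⁻¹ * (ι e * (ι d * k₀ * (ι d)⁻¹) * (ι e)⁻¹) * (ι e * ι d) := by group
        _ = _ := by rw [← this]; group }
  let V := MonoidHom.transfer (QuotientGroup.mk' K)
  have hodd : Odd (Nat.card T) := odd_card_of_no_involution fun x hx hx2 => by
    by_contra hx1
    exact h.smul_ne ⟨fun e => hx1 (Subtype.ext e), congrArg Subtype.val hx2⟩ x.2 h.ne hx
  have hKV : ∀ k : T, k ∈ K → V k = 1 := fun k hk => by
    rw [transfer_const _ (c := 1) fun n g hg => ?_, one_pow]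
    rw [one_pow, QuotientGroup.mk'_apply, QuotientGroup.eq_one_iff]
    have h1 : ι k ^ n ∈ zpowers k₀ := pow_mem hk n
    change (g : G)⁻¹ * ι k ^ n * g ∈ zpowers k₀
    by_cases h2 : ι k ^ n = 1
    · rw [h2]; simp
    have h3 : ((g : G)⁻¹ * ι k ^ n * g) • t • a = t • a := hg
    rw [mul_smul, mul_smul, inv_smul_eq_iff] at h3
    rcases h.K_fix (hK.2 h1) h2 h3 with e | e
    · exact (h.ne (smul_left_cancel (g : G) (e.trans g.2.symm))).elim
    · simpa using CK.K_normal h hk₀ (inv_mem ⟨g.2, e⟩) h1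
  have hVK : ∀ d : T, V d = 1 → d ∈ K := fun d hd => by
    obtain ⟨v, k, h1, h2, h3, e⟩ := h.factor (hι d)
    by_cases hv : v = 1
    · change ι d ∈ zpowers k₀
      rw [e, hv, one_mul]; exact hK.1 h3
    exfalso
    let v' : T := ⟨⟨v, h1.1⟩, h1.2⟩
    let k' : T := ⟨⟨k, h3.1.1⟩, h3.1.2⟩
    have h4 : V v' = 1 := by
      have : d = v' * k' := Subtype.ext (Subtype.ext e)
      rwa [this, Subgroup.coe_mul, map_mul, hKV k' (hK.1 h3), mul_one] at hd
    obtain ⟨p, n, hp, -, h5, h6⟩ := exists_prime_step (B := ⊥) (y := v) hv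
    have h7 : V (v' ^ n : T) = 1 := by rw [Subgroup.coe_pow, map_pow, h4, one_pow]
    have h8 : ι (v' ^ n) * t = t * ι (v' ^ n) := (show Commute v t from h2).pow_left n
    change ι (v' ^ n) ≠ 1 at h5
    change ι (v' ^ n) ^ p = 1 at h6
    generalize v' ^ n = x at h5 h6 h7 h8
    obtain ⟨u, hu, hua, hux⟩ := h.V_cent (k := 1) hp (by rwa [pow_one]) (hι x) h8
    obtain ⟨w, hw, hwa, hwx, hwu⟩ := hres _ u p hp (hι x) h5 h6 hu hua hux
    have loc : ∀ m : ℕ, ι x ^ m ≠ 1 → _ := fun m hm => h.loc p (zpowers (ι x ^ m)) u w hp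
      (isPGroup_zpowers (k := 1) (by rw [pow_one, ← pow_mul, mul_comm, pow_mul, h6, one_pow]))
      (by simpa using hm) ((Subgroup.zpowers_le).2 (pow_mem (hι x) m))
      ⟨mem_C_zpowers.2 ((show Commute u (ι x) from hux).pow_right m), hu, hua⟩
      ⟨mem_C_zpowers.2 ((show Commute w (ι x) from hwx).pow_right m), hw, hwa⟩ hwu.symm
    rw [transfer_const _ (c := QuotientGroup.mk' K x) fun m g hg => ?_] at h7
    · obtain ⟨j, hj⟩ := (loc 1 (by rwa [pow_one])).1
      rw [pow_one] at hj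
      haveI := Fact.mk hp
      have h9 := (isPGroup_zpowers (k := 1) (x := ι x) (by rwa [pow_one])).card_modEq_card_fixedPoints Ω
      have h10 : fixedPoints (zpowers (ι x)) Ω = Fx Ω (zpowers (ι x)) :=
        Set.ext fun c => ⟨fun e y hy => e ⟨y, hy⟩, fun e y => e y y.2⟩
      rw [h10, Nat.card_coe_set_eq, hj, ← Set.ncard_add_ncard_compl {a}, Set.ncard_singleton,
        ← h.orbit_eq, ← index_stabilizer, add_comm] at h9
      have h11 := Nat.ModEq.add_right_cancel' 1 h9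
      have h12 : QuotientGroup.mk' K x ^ p = 1 := by
        rw [← map_pow, show x ^ p = 1 from Subtype.ext (Subtype.ext h6), map_one]
      have h13 : QuotientGroup.mk' K x ^ 2 ^ j = 1 := by
        rw [← h7]
        exact (pow_eq_pow_iff_modEq.2 (h11.of_dvd (orderOf_dvd_of_pow_eq_one h12))).symm
      have h14 : orderOf (QuotientGroup.mk' K x) = 1 := Nat.eq_one_of_dvd_coprimes
        ((Nat.coprime_two_left.2 hodd).pow_left j) (orderOf_dvd_of_pow_eq_one h13)
        ((orderOf_map_dvd _ x).trans (orderOf_dvd_natCard x))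
      have h15 : ι x ∈ zpowers k₀ := (QuotientGroup.eq_one_iff x).1 (orderOf_eq_one_iff.1 h14)
      have h16 := (hK.2 h15).2
      rw [← h8, mul_inv_cancel_right] at h16
      exact h5 (eq_one_of_odd_card h.odd_D (hι x) (mul_eq_one_iff_eq_inv.2 h16))
    · by_cases hm : ι x ^ m = 1
      · have : x ^ m = 1 := Subtype.ext (Subtype.ext hm)
        rw [← map_pow, this]
        refine congrArg _ (Subtype.ext (Subtype.ext ?_))
        change (g : G)⁻¹ * ι x ^ m * g = 1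
        rw [hm]; simp
      have h3 : ((g : G)⁻¹ * ι x ^ m * g) • t • a = t • a := hg
      rw [mul_smul, mul_smul, inv_smul_eq_iff] at h3
      obtain ⟨y, h9, h10, -, -, h11⟩ := (loc m hm).2 _ (mem_Fx_zpowers.2 h3)
        fun e => h.ne (smul_left_cancel (g : G) (e.trans g.2.symm))
      let z : T := ⟨(⟨y, h10⟩ : stabilizer G a)⁻¹ * g, by
        change (y⁻¹ * g) • t • a = t • a
        rw [mul_smul, ← h11, inv_smul_smul]⟩
      have : (⟨_, hg⟩ : T) = z⁻¹ * x ^ m * z := Subtype.ext (Subtype.ext (by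
        change (g : G)⁻¹ * ι x ^ m * g = (y⁻¹ * g)⁻¹ * ι x ^ m * (y⁻¹ * g)
        rw [mul_inv_rev, inv_inv, mul_assoc _ y, mem_C_zpowers.1 h9]
        group))
      rw [this, map_mul, map_mul, map_inv, map_pow, inv_mul_cancel_comm]
  have hs : Function.Surjective (V.comp T.subtype) := by
    rw [← MonoidHom.range_eq_top]
    refine Subgroup.eq_top_of_card_eq _ ?_
    rw [← Subgroup.index_ker, show (V.comp T.subtype).ker = K from
      Subgroup.ext fun d => ⟨hVK d, hKV d⟩]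
    rfl
  obtain ⟨u, -, hu, -, -, hua, -⟩ := h.rk
  refine h.concl_of_L V.ker (fun x hx e => hK.2 (hVK ⟨x, e⟩ hx)) (fun g => ?_) hu hua ?_
  · obtain ⟨d, hd⟩ := hs (V g)
    refine ⟨g * (d : stabilizer G a)⁻¹, ?_, ?_⟩
    · rw [MonoidHom.mem_ker, map_mul, map_inv, ← hd]; simp
    · rw [Subgroup.coe_mul, mul_smul]
      exact congrArg _ (d⁻¹).2
  · refine eq_one_of_odd_card (X := ⊤) ?_ trivial ?_
    · rw [Subgroup.card_top]
      exact hodd.of_dvd_nat (Subgroup.card_quotient_dvd_card K)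
    · rw [← map_mul, show (⟨u, hua⟩ : stabilizer G a) * ⟨u, hua⟩ = 1 from Subtype.ext hu.2, map_one]

end Cfsg.Agent.SE
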